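import Groth.Agent.IndExt.Ext
import Mathlib.CategoryTheory.Limits.Constructions.Filtered
import Mathlib.CategoryTheory.Limits.Preserves.Finite
import Mathlib.CategoryTheory.Preadditive.AdditiveFunctor
import Mathlib.CategoryTheory.Preadditive.Biproducts

/-!
# Additivity and coproducts for extended functors
-/

set_option autoImplicit false

universe w v' u' v u s t

open CategoryTheory CategoryTheory.Limits

namespace Groth.Agent.IndExt

variable {C : Type u} [Category.{v} C] {S : Type s} [Category.{t} S] [EssentiallySmall.{w} S]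
  [LocallySmall.{w} C] (L : S ⥤ C) [∀ Y : C, IsFiltered (CostructuredArrow L Y)]
  {B : Type u'} [Category.{v'} B]

/-- A functor preserving filtered colimits is additive as soon as it is on the compact objects. -/
theorem additive_of_restriction [L.IsDense] [Preadditive C] [Preadditive S] [Preadditive B] [L.Additive]
    (G : C ⥤ B) [PreservesFilteredColimitsOfSize.{w, w} G] [(L ⋙ G).Additive] : G.Additive := by
  haveI : ∀ Y, IsFiltered (SmallModel.{w} (CostructuredArrow L Y)) := fun Y =>
    IsFiltered.of_equivalence (equivSmallModel.{w} (CostructuredArrow L Y))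
  constructor
  intro M N f g
  haveI : PreservesColimitsOfShape (CostructuredArrow L M) G :=
    preservesColimitsOfShape_of_equiv (equivSmallModel.{w} (CostructuredArrow L M)).symm G
  refine (isColimitOfPreserves G (L.denseAt M)).hom_ext fun j => ?_
  show G.map (𝟙 _ ≫ j.hom) ≫ G.map (f + g) = G.map (𝟙 _ ≫ j.hom) ≫ (G.map f + G.map g)
  rw [Preadditive.comp_add, ← G.map_comp, ← G.map_comp, ← G.map_comp, Preadditive.comp_add]
  let a : CostructuredArrow L N := CostructuredArrow.mk ((𝟙 _ ≫ j.hom) ≫ f)
  let b : CostructuredArrow L N := CostructuredArrow.mk ((𝟙 _ ≫ j.hom) ≫ g)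
  let q := IsFiltered.max a b
  have ha : L.map (IsFiltered.leftToMax a b).left ≫ q.hom = (𝟙 _ ≫ j.hom) ≫ f :=
    CostructuredArrow.w (IsFiltered.leftToMax a b)
  have hb : L.map (IsFiltered.rightToMax a b).left ≫ q.hom = (𝟙 _ ≫ j.hom) ≫ g :=
    CostructuredArrow.w (IsFiltered.rightToMax a b)
  rw [← ha, ← hb, ← Preadditive.add_comp, G.map_comp, G.map_comp, G.map_comp, ← Preadditive.add_comp]
  congr 1
  exact (congrArg G.map (L.map_add (f := (IsFiltered.leftToMax a b).left)
    (g := (IsFiltered.rightToMax a b).left)).symm).trans ((L ⋙ G).map_add)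

open CoproductsFromFiniteFiltered in
/-- Preserving finite coproducts and filtered colimits gives preservation of all coproducts. -/
theorem preservesCoproducts_of_finite_of_filtered [HasCoproducts.{w} C] [HasFiniteCoproducts C]
    [HasFilteredColimitsOfSize.{w, w} C] (G : C ⥤ B)
    [PreservesFilteredColimitsOfSize.{w, w} G] [PreservesFiniteCoproducts G] (α : Type w) :
    PreservesColimitsOfShape (Discrete α) G := by
  classical
  suffices ∀ f : α → C, PreservesColimit (Discrete.functor f) G from preservesColimitsOfShape_of_discrete _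
  intro f
  refine preservesColimit_of_preserves_colimit_cocone (coproductIsCoproduct f) ?_
  have h := isColimitOfPreserves G (isColimitFiniteSubproductsCocone f)
  have hfin : ∀ T : Finset (Discrete α), IsColimit (G.mapCocone
      (Cofan.mk (∐ fun x : T => f x.1.as) fun x => Sigma.ι (fun x : T => f x.1.as) x)) := fun T =>
    isColimitOfPreserves G (coproductIsCoproduct _)
  let w : Cocone (Discrete.functor f ⋙ G) → Cocone (liftToFinsetObj (Discrete.functor f) ⋙ G) := fun s =>
    { pt := s.pt
      ι :=
        { app := fun T => (hfin T).desc ⟨s.pt, Discrete.natTrans fun x => s.ι.app x.as.1⟩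
          naturality := fun T U i => by
            refine (hfin T).hom_ext fun x => ?_
            refine Eq.trans ?_ (((hfin T).fac ⟨s.pt, Discrete.natTrans fun x => s.ι.app x.as.1⟩ x).symm.trans
              (congrArg _ (Category.comp_id _).symm))
            refine Eq.trans (Category.assoc _ _ _).symm ?_
            refine Eq.trans (congrArg (· ≫ _) ((G.map_comp _ _).symm.trans (congrArg G.map (Sigma.ι_desc _ _)))) ?_
            exact (hfin U).fac ⟨s.pt, Discrete.natTrans fun x => s.ι.app x.as.1⟩ ⟨⟨x.as.1, i.down.down x.as.2⟩⟩ } }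
  refine { desc := fun s => h.desc (w s), fac := fun s j => ?_, uniq := fun s m hm => ?_ }
  · refine Eq.trans ?_ (((hfin {j}).fac ⟨s.pt, Discrete.natTrans fun x => s.ι.app x.as.1⟩ ⟨⟨j, Finset.mem_singleton_self j⟩⟩))
    refine Eq.trans ?_ (congrArg _ (h.fac (w s) {j}))
    refine Eq.trans ?_ (Category.assoc _ _ _)
    refine congrArg (· ≫ h.desc (w s)) ?_
    exact (congrArg G.map (Sigma.ι_desc (fun x : ({j} : Finset (Discrete α)) => Sigma.ι f x.1.as)
      ⟨j, Finset.mem_singleton_self j⟩).symm).trans (G.map_comp _ _)
  · refine h.uniq (w s) m fun T => (hfin T).hom_ext fun x => ?_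
    refine Eq.trans ?_ ((hfin T).fac ⟨s.pt, Discrete.natTrans fun x => s.ι.app x.as.1⟩ x).symm
    refine Eq.trans ?_ (hm x.as.1)
    refine Eq.trans (Category.assoc _ _ _).symm ?_
    exact congrArg (· ≫ m) ((G.map_comp _ _).symm.trans (congrArg G.map (Sigma.ι_desc _ _)))

end Groth.Agent.IndExt
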