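import Groth.Agent.IndExt.Exact
import Groth.Agent.IndExt.Additive
import Mathlib.CategoryTheory.Preadditive.LeftExact
import Mathlib.CategoryTheory.Limits.Preserves.Shapes.Zero
import Mathlib.CategoryTheory.Abelian.Basic

/-!
# Exactness of extensions between additive categories
-/

set_option autoImplicit false

universe w v' u' v u s t

open CategoryTheory CategoryTheory.Limits

namespace Groth.Agent.IndExt

theorem additive_of_rightExact {S : Type s} [Category.{t} S] [Preadditive S] [HasFiniteColimits S]
    {B : Type u'} [Category.{v'} B] [Preadditive B] [HasFiniteBiproducts B] (F : S ⥤ B)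
    [PreservesFiniteColimits F] : F.Additive := by
  haveI : HasFiniteBiproducts S := HasFiniteBiproducts.of_hasFiniteCoproducts
  haveI : HasBinaryBiproducts S := hasBinaryBiproducts_of_finite_biproducts S
  haveI := preservesBinaryBiproducts_of_preservesBinaryCoproducts F
  exact Functor.additive_of_preservesBinaryBiproducts F

theorem additive_of_leftExact {S : Type s} [Category.{t} S] [Preadditive S] [HasFiniteLimits S]
    {B : Type u'} [Category.{v'} B] [Preadditive B] [HasFiniteBiproducts B] (F : S ⥤ B)
    [PreservesFiniteLimits F] : F.Additive := by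
  haveI : HasFiniteBiproducts S := HasFiniteBiproducts.of_hasFiniteProducts
  haveI : HasBinaryBiproducts S := hasBinaryBiproducts_of_finite_biproducts S
  haveI := preservesBinaryBiproducts_of_preservesBinaryProducts F
  exact Functor.additive_of_preservesBinaryBiproducts F

variable {C : Type u} [Category.{v} C] [Abelian C] {S : Type s} [Category.{t} S] [Preadditive S]
  [EssentiallySmall.{w} S] [LocallySmall.{w} C] (L : S ⥤ C) [∀ Y : C, IsFiltered (CostructuredArrow L Y)]
  [L.IsDense] [L.Additive] {B : Type u'} [Category.{v'} B] [Preadditive B] [HasFiniteBiproducts B]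
  [HasColimitsOfSize.{w, w} C] [HasFilteredColimitsOfSize.{w, w} B]

/-- A functor preserving filtered colimits is right exact as soon as it is on compact objects. -/
theorem rightExact_of_compact [HasFiniteColimits S] [PreservesFiniteColimits L] [HasCokernels B]
    (G : C ⥤ B) [PreservesFilteredColimitsOfSize.{w, w} G] [PreservesFiniteColimits (L ⋙ G)] :
    G.Additive ∧ PreservesFiniteColimits G ∧ ∀ J : Type w, PreservesColimitsOfShape (Discrete J) G := by
  haveI := additive_of_rightExact (L ⋙ G)
  haveI hadd := additive_of_restriction L G
  haveI : ∀ {M N : C} (f : M ⟶ N), PreservesColimit (parallelPair f 0) G := fun {M N} f =>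
    preservesCokernels_of_compact L G (fun {p q} a => by
      haveI := preservesColimit_of_comp L (parallelPair a 0) G
      exact preservesColimit_of_iso_diagram G (K₁ := parallelPair a 0 ⋙ L)
        (parallelPair.ext (Iso.refl _) (Iso.refl _) (by simp) (by simp))) f
  haveI hfc : PreservesFiniteColimits G := Functor.preservesFiniteColimits_of_preservesCokernels G
  exact ⟨hadd, hfc, fun J => preservesCoproducts_of_finite_of_filtered G J⟩

/-- A functor preserving filtered colimits is left exact as soon as it is on compact objects. -/
theorem leftExact_of_compact [HasFiniteLimits S] [PreservesFiniteLimits L] [HasKernels B]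
    (hC : ∀ (J : Type w) [SmallCategory J] [IsFiltered J],
      PreservesLimitsOfShape WalkingParallelPair (colim : (J ⥤ C) ⥤ C))
    (hB : ∀ (J : Type w) [SmallCategory J] [IsFiltered J],
      PreservesLimitsOfShape WalkingParallelPair (colim : (J ⥤ B) ⥤ B))
    (G : C ⥤ B) [PreservesFilteredColimitsOfSize.{w, w} G] [PreservesFiniteLimits (L ⋙ G)] :
    G.Additive ∧ PreservesFiniteLimits G ∧ ∀ J : Type w, PreservesColimitsOfShape (Discrete J) G := by
  haveI := additive_of_leftExact (L ⋙ G)
  haveI hadd := additive_of_restriction L G
  haveI : ∀ {M N : C} (f : M ⟶ N), PreservesLimit (parallelPair f 0) G := fun {M N} f =>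
    preservesKernels_of_compact L hC hB G (fun {p q} a => by
      haveI := preservesLimit_of_comp L (parallelPair a 0) G
      exact preservesLimit_of_iso_diagram G (K₁ := parallelPair a 0 ⋙ L)
        (parallelPair.ext (Iso.refl _) (Iso.refl _) (by simp) (by simp))) f
  haveI hfl : PreservesFiniteLimits G := Functor.preservesFiniteLimits_of_preservesKernels G
  exact ⟨hadd, hfl, fun J => preservesCoproducts_of_finite_of_filtered G J⟩

end Groth.Agent.IndExt
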