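import Groth.Agent.IndExt.Ext
import Mathlib.CategoryTheory.Comma.Arrow
import Mathlib.CategoryTheory.Filtered.Final

/-!
# Morphisms as filtered colimits of morphisms of compact objects
-/

set_option autoImplicit false

universe w v' u' v u s t

open CategoryTheory CategoryTheory.Limits

namespace Groth.Agent.IndExt

variable {C : Type u} [Category.{v} C] {S : Type s} [Category.{t} S] [EssentiallySmall.{w} S]
  [LocallySmall.{w} C] (L : S ⥤ C) [∀ Y : C, IsFiltered (CostructuredArrow L Y)]
  {M N : C} (f : M ⟶ N)

/-- The morphisms of compact objects over a given morphism. -/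
abbrev ArrIx := CostructuredArrow L.mapArrow (Arrow.mk f)

/-- The source of an object of the index category. -/
@[simps!]
def srcProj : ArrIx L f ⥤ CostructuredArrow L M where
  obj i := CostructuredArrow.mk i.hom.left
  map a := CostructuredArrow.homMk a.left.left (congrArg CommaMorphism.left (CostructuredArrow.w a))

/-- The target of an object of the index category. -/
@[simps!]
def tgtProj : ArrIx L f ⥤ CostructuredArrow L N where
  obj i := CostructuredArrow.mk i.hom.right
  map a := CostructuredArrow.homMk a.left.right (congrArg CommaMorphism.right (CostructuredArrow.w a))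

/-- An object of the index category from a square. -/
def arrMk {p q : S} (a : p ⟶ q) (x : L.obj p ⟶ M) (y : L.obj q ⟶ N) (w : x ≫ f = L.map a ≫ y) : ArrIx L f :=
  CostructuredArrow.mk (Y := Arrow.mk a) (Arrow.homMk x y w)

/-- A morphism of the index category. -/
def arrHom {i j : ArrIx L f} (a : i.left.left ⟶ j.left.left) (b : i.left.right ⟶ j.left.right)
    (h : a ≫ j.left.hom = i.left.hom ≫ b) (ha : L.map a ≫ j.hom.left = i.hom.left)
    (hb : L.map b ≫ j.hom.right = i.hom.right) : i ⟶ j :=
  CostructuredArrow.homMk (Arrow.homMk a b h) (Arrow.hom_ext _ _ ha hb)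

theorem sq (i : ArrIx L f) : i.hom.left ≫ f = L.map i.left.hom ≫ i.hom.right := Arrow.w i.hom

theorem exists_over_src (x : CostructuredArrow L M) :
    ∃ i : ArrIx L f, Nonempty (x ⟶ (srcProj L f).obj i) :=
  ⟨arrMk L f (𝟙 x.left) x.hom (x.hom ≫ f) (by rw [L.map_id, Category.id_comp]), ⟨𝟙 x⟩⟩

instance isFiltered_arrIx : IsFiltered (ArrIx L f) :=
  haveI : Nonempty (ArrIx L f) :=
    ⟨(exists_over_src L f (IsFiltered.nonempty (C := CostructuredArrow L M)).some).choose⟩
  haveI : IsFilteredOrEmpty (ArrIx L f) :=
    { cocone_objs := fun i j => by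
        let x := IsFiltered.max ((srcProj L f).obj i) ((srcProj L f).obj j)
        let xi := IsFiltered.leftToMax ((srcProj L f).obj i) ((srcProj L f).obj j)
        let xj := IsFiltered.rightToMax ((srcProj L f).obj i) ((srcProj L f).obj j)
        let y : CostructuredArrow L N := CostructuredArrow.mk (x.hom ≫ f)
        let i' : CostructuredArrow L N := CostructuredArrow.mk i.hom.right
        let j' : CostructuredArrow L N := CostructuredArrow.mk j.hom.right
        let z₀ := IsFiltered.max₃ i' j' y
        let mi : i' ⟶ z₀ := IsFiltered.firstToMax₃ i' j' y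
        let mj : j' ⟶ z₀ := IsFiltered.secondToMax₃ i' j' y
        let my : y ⟶ z₀ := IsFiltered.thirdToMax₃ i' j' y
        let pi : CostructuredArrow L N := CostructuredArrow.mk (i.hom.left ≫ f)
        let pj : CostructuredArrow L N := CostructuredArrow.mk (j.hom.left ≫ f)
        have hxi : L.map xi.left ≫ x.hom = i.hom.left := CostructuredArrow.w xi
        have hxj : L.map xj.left ≫ x.hom = j.hom.left := CostructuredArrow.w xj
        let ai : pi ⟶ i' := CostructuredArrow.homMk i.left.hom (sq L f i).symm
        let aj : pj ⟶ j' := CostructuredArrow.homMk j.left.hom (sq L f j).symm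
        let bi : pi ⟶ y := CostructuredArrow.homMk xi.left ((Category.assoc _ _ _).symm.trans (congrArg (· ≫ f) hxi))
        let bj : pj ⟶ y := CostructuredArrow.homMk xj.left ((Category.assoc _ _ _).symm.trans (congrArg (· ≫ f) hxj))
        let z₁ := IsFiltered.coeq (ai ≫ mi) (bi ≫ my)
        let e₁ := IsFiltered.coeqHom (ai ≫ mi) (bi ≫ my)
        have h₁ : (ai ≫ mi) ≫ e₁ = (bi ≫ my) ≫ e₁ := IsFiltered.coeq_condition _ _
        let e₂ := IsFiltered.coeqHom ((aj ≫ mj) ≫ e₁) ((bj ≫ my) ≫ e₁)
        have h₂ : ((aj ≫ mj) ≫ e₁) ≫ e₂ = ((bj ≫ my) ≫ e₁) ≫ e₂ := IsFiltered.coeq_condition _ _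
        let z := IsFiltered.coeq ((aj ≫ mj) ≫ e₁) ((bj ≫ my) ≫ e₁)
        refine ⟨arrMk L f (my ≫ e₁ ≫ e₂).left x.hom z.hom (CostructuredArrow.w (my ≫ e₁ ≫ e₂)).symm,
          arrHom L f xi.left (mi ≫ e₁ ≫ e₂).left ?_ hxi (CostructuredArrow.w (mi ≫ e₁ ≫ e₂)),
          arrHom L f xj.left (mj ≫ e₁ ≫ e₂).left ?_ hxj (CostructuredArrow.w (mj ≫ e₁ ≫ e₂)), trivial⟩
        · have := congrArg (fun t => (t ≫ e₂).left) h₁
          simp only [CostructuredArrow.comp_left, Category.assoc] at this ⊢
          exact this.symm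
        · have := congrArg (fun t => t.left) h₂
          simp only [CostructuredArrow.comp_left, Category.assoc] at this ⊢
          exact this.symm
      cocone_maps := fun i j g g' => by
        let sx := (srcProj L f).map g
        let sx' := (srcProj L f).map g'
        let c := IsFiltered.coeqHom sx sx'
        let x := IsFiltered.coeq sx sx'
        let y : CostructuredArrow L N := CostructuredArrow.mk (x.hom ≫ f)
        let j' : CostructuredArrow L N := CostructuredArrow.mk j.hom.right
        let pj : CostructuredArrow L N := CostructuredArrow.mk (j.hom.left ≫ f)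
        have hc : L.map c.left ≫ x.hom = j.hom.left := CostructuredArrow.w c
        let aj : pj ⟶ j' := CostructuredArrow.homMk j.left.hom (sq L f j).symm
        let bj : pj ⟶ y := CostructuredArrow.homMk c.left ((Category.assoc _ _ _).symm.trans (congrArg (· ≫ f) hc))
        let mj : j' ⟶ IsFiltered.max j' y := IsFiltered.leftToMax _ _
        let my : y ⟶ IsFiltered.max j' y := IsFiltered.rightToMax _ _
        let e₁ := IsFiltered.coeqHom (aj ≫ mj) (bj ≫ my)
        have h₁ : (aj ≫ mj) ≫ e₁ = (bj ≫ my) ≫ e₁ := IsFiltered.coeq_condition _ _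
        let e₂ := IsFiltered.coeqHom ((tgtProj L f).map g ≫ mj ≫ e₁) ((tgtProj L f).map g' ≫ mj ≫ e₁)
        have h₂ : ((tgtProj L f).map g ≫ mj ≫ e₁) ≫ e₂ = ((tgtProj L f).map g' ≫ mj ≫ e₁) ≫ e₂ :=
          IsFiltered.coeq_condition _ _
        let z := IsFiltered.coeq ((tgtProj L f).map g ≫ mj ≫ e₁) ((tgtProj L f).map g' ≫ mj ≫ e₁)
        refine ⟨arrMk L f (my ≫ e₁ ≫ e₂).left x.hom z.hom (CostructuredArrow.w (my ≫ e₁ ≫ e₂)).symm,
          arrHom L f c.left ((mj ≫ e₁) ≫ e₂).left ?_ hc (CostructuredArrow.w ((mj ≫ e₁) ≫ e₂)), ?_⟩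
        · have := congrArg (fun t => (t ≫ e₂).left) h₁
          simp only [CostructuredArrow.comp_left, Category.assoc] at this ⊢
          exact this.symm
        · refine CostructuredArrow.hom_ext _ _ (Arrow.hom_ext _ _ ?_ ?_)
          · exact congrArg (fun t => t.left) (IsFiltered.coeq_condition sx sx')
          · exact (Category.assoc _ _ _).symm.trans
              ((congrArg (fun t => t.left) h₂).trans (Category.assoc _ _ _)) }
  IsFiltered.mk

instance final_srcProj : (srcProj L f).Final := by
  rw [Functor.final_iff_of_isFiltered]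
  refine ⟨fun x => exists_over_src L f x, fun {x i} s s' => ?_⟩
  let c := IsFiltered.coeqHom s s'
  let y := IsFiltered.coeq s s'
  have hc : L.map c.left ≫ y.hom = i.hom.left := CostructuredArrow.w c
  let pi : CostructuredArrow L N := CostructuredArrow.mk (i.hom.left ≫ f)
  let yN : CostructuredArrow L N := CostructuredArrow.mk (y.hom ≫ f)
  let i' : CostructuredArrow L N := CostructuredArrow.mk i.hom.right
  let ai : pi ⟶ i' := CostructuredArrow.homMk i.left.hom (sq L f i).symm
  let bi : pi ⟶ yN := CostructuredArrow.homMk c.left ((Category.assoc _ _ _).symm.trans (congrArg (· ≫ f) hc))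
  let mi : i' ⟶ IsFiltered.max i' yN := IsFiltered.leftToMax _ _
  let my : yN ⟶ IsFiltered.max i' yN := IsFiltered.rightToMax _ _
  let e := IsFiltered.coeqHom (ai ≫ mi) (bi ≫ my)
  have h₁ : (ai ≫ mi) ≫ e = (bi ≫ my) ≫ e := IsFiltered.coeq_condition _ _
  refine ⟨arrMk L f (my ≫ e).left y.hom _ (CostructuredArrow.w (my ≫ e)).symm,
    arrHom L f c.left (mi ≫ e).left ?_ hc (CostructuredArrow.w (mi ≫ e)), ?_⟩
  · have := congrArg (fun t => t.left) h₁
    simp only [CostructuredArrow.comp_left, Category.assoc] at this ⊢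
    exact this.symm
  · refine CostructuredArrow.hom_ext _ _ ?_
    exact congrArg (fun t => t.left) (IsFiltered.coeq_condition s s')

instance final_tgtProj : (tgtProj L f).Final := by
  rw [Functor.final_iff_of_isFiltered]
  refine ⟨fun y => ?_, fun {y i} s s' => ?_⟩
  · let x : CostructuredArrow L M := (IsFiltered.nonempty (C := CostructuredArrow L M)).some
    let xN : CostructuredArrow L N := CostructuredArrow.mk (x.hom ≫ f)
    let m := IsFiltered.leftToMax xN y
    exact ⟨arrMk L f m.left x.hom _ (CostructuredArrow.w m).symm,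
      ⟨CostructuredArrow.homMk (IsFiltered.rightToMax xN y).left (CostructuredArrow.w (IsFiltered.rightToMax xN y))⟩⟩
  · let c := IsFiltered.coeqHom s s'
    have hc : L.map c.left ≫ (IsFiltered.coeq s s').hom = i.hom.right := CostructuredArrow.w c
    refine ⟨arrMk L f (i.left.hom ≫ c.left) i.hom.left (IsFiltered.coeq s s').hom ?_,
      arrHom L f (𝟙 _) c.left (Category.id_comp _) ?_ hc, CostructuredArrow.hom_ext _ _ ?_⟩
    · exact (sq L f i).trans (((congrArg (L.map i.left.hom ≫ ·) hc.symm).trans
        (Category.assoc _ _ _).symm).trans (congrArg (· ≫ _) (L.map_comp _ _).symm))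
    · exact (congrArg (· ≫ _) (L.map_id _)).trans (Category.id_comp _)
    · exact congrArg (fun t => t.left) (IsFiltered.coeq_condition s s')

end Groth.Agent.IndExt
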