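import Groth.Agent.IndExt.ModClosed
import Mathlib.Algebra.Category.ModuleCat.Kernels
import Mathlib.Algebra.Category.ModuleCat.AB
import Mathlib.CategoryTheory.Limits.Constructions.FiniteProductsOfBinaryProducts
import Mathlib.CategoryTheory.Limits.Constructions.LimitsOfProductsAndEqualizers

/-!
# Modules of finite presentation over a coherent ring
-/

set_option autoImplicit false

universe u

open CategoryTheory CategoryTheory.Limits

namespace Groth.Agent.IndExt

variable {A : Type u} [CommRing A] (hcoh : ∀ I : Ideal A, I.FG → Module.FinitePresentation A I)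

include hcoh in
theorem finitePresentation_of_injective : ∀ (n : ℕ) (M : Type u) [AddCommGroup M] [Module A M]
    [Module.Finite A M] (f : M →ₗ[A] (Fin n → A)), Function.Injective f → Module.FinitePresentation A M := by
  intro n
  induction n with
  | zero =>
    intro M _ _ _ f hf
    haveI : Subsingleton M := hf.subsingleton
    exact Module.finitePresentation_of_surjective (0 : (Fin 0 → A) →ₗ[A] M)
      (fun y => ⟨0, Subsingleton.elim _ _⟩) (by rw [LinearMap.ker_zero]; exact Module.Finite.fg_top)
  | succ n ih =>
    intro M _ _ _ f hf
    let p : M →ₗ[A] A := (LinearMap.proj (Fin.last n)).comp f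
    haveI : Module.FinitePresentation A (LinearMap.range p) := hcoh _ (Module.Finite.fg_top.map p |> fun h => by
      rwa [Submodule.map_top] at h)
    haveI : Module.Finite A (LinearMap.ker p.rangeRestrict) := Module.Finite.iff_fg.2
      (Module.FinitePresentation.fg_ker p.rangeRestrict p.surjective_rangeRestrict)
    haveI : Module.FinitePresentation A (LinearMap.ker p.rangeRestrict) := by
      refine ih _ (((LinearMap.funLeft A A Fin.castSucc).comp f).comp (LinearMap.ker p.rangeRestrict).subtype) ?_
      intro a b h
      refine Subtype.ext (hf (funext fun i => ?_))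
      induction i using Fin.lastCases with
      | last =>
        have ha : p a.1 = 0 := congrArg Subtype.val a.2
        have hb : p b.1 = 0 := congrArg Subtype.val b.2
        exact ha.trans hb.symm
      | cast i => exact congrFun h i
    exact Module.finitePresentation_of_ker p.rangeRestrict p.surjective_rangeRestrict

include hcoh in
theorem finitePresentation_of_fg_free (n : ℕ) (N : Submodule A (Fin n → A)) (hN : N.FG) :
    Module.FinitePresentation A N :=
  haveI := Module.Finite.iff_fg.2 hN
  finitePresentation_of_injective hcoh n N N.subtype Subtype.val_injective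

include hcoh in
theorem finitePresentation_of_fg {M : Type u} [AddCommGroup M] [Module A M] [Module.FinitePresentation A M]
    (N : Submodule A M) (hN : N.FG) : Module.FinitePresentation A N := by
  obtain ⟨n, K, e, hK⟩ := Module.FinitePresentation.exists_fin A M
  let π : (Fin n → A) →ₗ[A] M := e.symm.toLinearMap ∘ₗ K.mkQ
  have hπ : Function.Surjective π := e.symm.surjective.comp K.mkQ_surjective
  have hker : LinearMap.ker π = K := by
    rw [LinearMap.ker_comp, LinearEquiv.ker, Submodule.comap_bot, Submodule.ker_mkQ]
  have hN' : (N.comap π).FG := by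
    refine Submodule.fg_of_fg_map_of_fg_inf_ker π ?_ ?_
    · rwa [Submodule.map_comap_eq_of_surjective hπ]
    · rw [inf_eq_right.2 (fun x hx => by simp [LinearMap.mem_ker.1 hx])]
      rwa [hker]
  haveI := finitePresentation_of_fg_free hcoh n _ hN'
  let r : N.comap π →ₗ[A] N := π.restrict fun x hx => hx
  refine Module.finitePresentation_of_surjective r ?_ ?_
  · intro y
    obtain ⟨x, hx⟩ := hπ y.1
    exact ⟨⟨x, by rw [Submodule.mem_comap, hx]; exact y.2⟩, Subtype.ext hx⟩
  · refine Submodule.fg_of_fg_map_injective (N.comap π).subtype Subtype.val_injective ?_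
    have : (LinearMap.ker r).map (N.comap π).subtype = K := by
      ext x
      rw [Submodule.mem_map]
      constructor
      · rintro ⟨y, hy, rfl⟩
        rw [← hker]
        exact congrArg Subtype.val hy
      · intro hx
        rw [← hker] at hx
        exact ⟨⟨x, by rw [Submodule.mem_comap, LinearMap.mem_ker.1 hx]; exact zero_mem _⟩, Subtype.ext hx, rfl⟩
    rw [this]; exact hK

include hcoh in
theorem closedUnderKernels : (fpMod A).IsClosedUnderKernels where
  kernels_le := by
    rintro _ ⟨f, k, hk, hX, hY⟩
    refine (fpMod A).prop_of_iso (hk.conePointUniqueUpToIso (ModuleCat.kernelIsLimit f)).symm ?_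
    change Module.FinitePresentation A (LinearMap.ker f.hom)
    rename_i P Q
    haveI : Module.FinitePresentation A P := hX
    haveI : Module.FinitePresentation A Q := hY
    haveI := finitePresentation_of_fg hcoh (LinearMap.range f.hom)
      (Module.Finite.fg_top.map f.hom |> fun h => by rwa [Submodule.map_top] at h)
    have hfg := Module.FinitePresentation.fg_ker f.hom.rangeRestrict f.hom.surjective_rangeRestrict
    rw [LinearMap.ker_rangeRestrict] at hfg
    exact finitePresentation_of_fg hcoh _ hfg

end Groth.Agent.IndExt

namespace Groth.Agent.IndExt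

instance fpMod_closedCokernels (A : Type u) [CommRing A] : (fpMod A).IsClosedUnderCokernels where
  cokernels_le := by
    rintro _ ⟨f, k, hk, hX, hY⟩
    exact (fpMod A).prop_of_isColimit hk fun j => by
      rcases j with _ | _
      · exact hX
      · exact hY

instance fpMod_containsZero (A : Type u) [CommRing A] : (fpMod A).ContainsZero where
  exists_zero := ⟨ModuleCat.of A PUnit.{u + 1}, ModuleCat.isZero_of_subsingleton _,
    Module.finitePresentation_of_surjective (0 : (Fin 0 → A) →ₗ[A] PUnit.{u + 1})
      (fun y => ⟨0, Subsingleton.elim _ _⟩) (by rw [LinearMap.ker_zero]; exact Module.Finite.fg_top)⟩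

instance fpMod_closedProducts (A : Type u) [CommRing A] : (fpMod A).IsClosedUnderFiniteProducts where
  isClosedUnderLimitsOfShape J _ := ⟨by
    rintro M ⟨h⟩
    classical
    haveI := Fintype.ofFinite J
    haveI := HasFiniteBiproducts.of_hasFiniteProducts (C := ModuleCat.{u} A)
    let T : J → ModuleCat.{u} A := fun j => h.diag.obj ⟨j⟩
    exact (fpMod A).prop_of_iso (h.isLimit.conePointUniqueUpToIso
      ((IsLimit.postcomposeHomEquiv Discrete.natIsoFunctor.symm _).symm (biproduct.isLimit T))).symm
      ((fpMod A).prop_of_isColimit (biproduct.isColimit T) fun j => h.prop_diag_obj ⟨j.as⟩)⟩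

end Groth.Agent.IndExt
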