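import Groth.Agent.IndExt.AdditiveExact
import Groth.Agent.IndExt.Coherent

/-!
# Right exact functors on modules of finite presentation
-/

set_option autoImplicit false

universe v' u' u

open CategoryTheory CategoryTheory.Limits

namespace Groth.Agent.IndExt

variable (A : Type u) [CommRing A]

/-- The object `A`. -/
abbrev one : (fpMod A).FullSubcategory := ⟨ModuleCat.of A A, inferInstance⟩

/-- The free objects. -/
abbrev free (n : ℕ) : (fpMod A).FullSubcategory := ⟨ModuleCat.of A (Fin n → A), (inferInstance : Module.FinitePresentation A (Fin n → A))⟩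

variable {A}

/-- A map out of `A` given by an element. -/
noncomputable abbrev el (M : (fpMod A).FullSubcategory) (m : M.obj) : one A ⟶ M :=
  ObjectProperty.homMk (ModuleCat.ofHom (LinearMap.toSpanSingleton A M.obj m))

/-- Multiplication by a scalar. -/
noncomputable abbrev mulA (a : A) : one A ⟶ one A :=
  ObjectProperty.homMk (ModuleCat.ofHom (LinearMap.lsmul A A a))

/-- The coordinates of a free object. -/
noncomputable abbrev projA (n : ℕ) (i : Fin n) : free A n ⟶ one A :=
  ObjectProperty.homMk (ModuleCat.ofHom (LinearMap.proj i))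

/-- The basis of a free object. -/
noncomputable abbrev inclA (n : ℕ) (i : Fin n) : one A ⟶ free A n :=
  ObjectProperty.homMk (ModuleCat.ofHom (LinearMap.single A (fun _ => A) i))

theorem free_id (n : ℕ) : ∑ i, projA (A := A) n i ≫ inclA n i = 𝟙 (free A n) := by
  refine (fpMod A).ι.map_injective ?_
  rw [(fpMod A).ι.map_sum]
  refine ModuleCat.hom_ext ?_
  rw [ModuleCat.hom_sum]
  refine LinearMap.ext fun x => ?_
  rw [LinearMap.sum_apply]
  exact Finset.univ_sum_single x

theorem el_eq_sum (n : ℕ) (x : Fin n → A) : el (free A n) x = ∑ i, mulA (x i) ≫ inclA n i := by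
  refine (fpMod A).ι.map_injective ?_
  rw [(fpMod A).ι.map_sum]
  refine ModuleCat.hom_ext ?_
  rw [ModuleCat.hom_sum]
  refine LinearMap.ext_ring ?_
  rw [LinearMap.sum_apply]
  show (1 : A) • x = ∑ i, Pi.single i (x i * 1)
  rw [one_smul]
  simp only [mul_one]
  exact (Finset.univ_sum_single x).symm

theorem el_comp {M N : (fpMod A).FullSubcategory} (f : M ⟶ N) (m : M.obj) : el M m ≫ f = el N (f.hom.hom m) := by
  refine (fpMod A).ι.map_injective (ModuleCat.hom_ext (LinearMap.ext_ring ?_))
  show f.hom.hom ((1 : A) • m) = (1 : A) • f.hom.hom m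
  rw [one_smul, one_smul]

theorem eq_el {M : (fpMod A).FullSubcategory} (g : one A ⟶ M) : g = el M (g.hom.hom (1 : A)) := by
  refine (fpMod A).ι.map_injective (ModuleCat.hom_ext (LinearMap.ext_ring ?_))
  show g.hom.hom (1 : A) = (1 : A) • g.hom.hom (1 : A)
  rw [one_smul]

theorem exists_presentation (M : (fpMod A).FullSubcategory) :
    ∃ (n k : ℕ) (a : free A k ⟶ free A n) (π : free A n ⟶ M) (w : a ≫ π = 0),
      Nonempty (IsColimit (CokernelCofork.ofπ π w)) ∧ Function.Surjective π.hom.hom := by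
  haveI : Module.FinitePresentation A M.obj := M.property
  obtain ⟨n, K, e, hK⟩ := Module.FinitePresentation.exists_fin A M.obj
  obtain ⟨k, g, hg⟩ := Submodule.fg_iff_exists_fin_generating_family.1 hK
  let a : free A k ⟶ free A n := ObjectProperty.homMk (ModuleCat.ofHom (Fintype.linearCombination A g))
  let p : (Fin n → A) →ₗ[A] M.obj := e.symm.toLinearMap ∘ₗ K.mkQ
  let π : free A n ⟶ M := ObjectProperty.homMk (ModuleCat.ofHom p)
  have hker : LinearMap.ker p = K := by
    rw [LinearMap.ker_comp, LinearEquiv.ker, Submodule.comap_bot, Submodule.ker_mkQ]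
  have hr : LinearMap.range (Fintype.linearCombination A g) = K := by
    rw [Fintype.range_linearCombination, hg]
  have hp : Function.Surjective p := e.symm.surjective.comp K.mkQ_surjective
  have w : a ≫ π = 0 := by
    refine (fpMod A).ι.map_injective (ModuleCat.hom_ext ?_)
    exact LinearMap.range_le_ker_iff.1 (hr.trans hker.symm).le
  haveI : Epi π.hom := (ModuleCat.epi_iff_surjective _).2 hp
  haveI : Epi π := (fpMod A).ι.epi_of_epi_map (inferInstanceAs (Epi π.hom))
  refine ⟨n, k, a, π, w, ⟨CokernelCofork.IsColimit.ofπ' π w fun {Z} q hq => ?_⟩, hp⟩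
  have hle : K ≤ LinearMap.ker q.hom.hom := by
    rw [← hr]
    exact LinearMap.range_le_ker_iff.2 (congrArg (fun t => t.hom.hom) hq)
  refine ⟨ObjectProperty.homMk (ModuleCat.ofHom ((K.liftQ q.hom.hom hle) ∘ₗ e.toLinearMap)), ?_⟩
  refine (fpMod A).ι.map_injective (ModuleCat.hom_ext (LinearMap.ext fun x => ?_))
  show K.liftQ q.hom.hom hle (e (e.symm (K.mkQ x))) = q.hom.hom x
  rw [LinearEquiv.apply_symm_apply]
  rfl

section unique

variable {B : Type u'} [Category.{v'} B] [Preadditive B] [HasFiniteBiproducts B]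
  (F : (fpMod A).FullSubcategory ⥤ B) [PreservesFiniteColimits F]

theorem el_jointly_epi (M : (fpMod A).FullSubcategory) {Z : B} (g g' : F.obj M ⟶ Z)
    (h : ∀ s : one A ⟶ M, F.map s ≫ g = F.map s ≫ g') : g = g' := by
  haveI := additive_of_rightExact F
  obtain ⟨n, k, a, π, w, ⟨hπ⟩, -⟩ := exists_presentation M
  have hc := CokernelCofork.mapIsColimit _ hπ F
  refine Cofork.IsColimit.hom_ext hc ?_
  change F.map π ≫ g = F.map π ≫ g'
  rw [← Category.id_comp (F.map π), ← F.map_id, ← free_id n, F.map_sum, Preadditive.sum_comp,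
    Preadditive.sum_comp, Preadditive.sum_comp]
  refine Finset.sum_congr rfl fun i _ => ?_
  rw [F.map_comp, Category.assoc, Category.assoc, Category.assoc, Category.assoc]
  refine congrArg (F.map (projA n i) ≫ ·) ?_
  exact (F.map_comp_assoc _ _ g).symm.trans ((h _).trans (F.map_comp_assoc _ _ g'))

variable (F' : (fpMod A).FullSubcategory ⥤ B) [PreservesFiniteColimits F']

theorem natTrans_ext (t t' : F ⟶ F') (h : t.app (one A) = t'.app (one A)) : t = t' := by
  ext M
  refine el_jointly_epi F M _ _ fun s => ?_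
  rw [t.naturality, t'.naturality, h]

theorem exists_natTrans (φ : F.obj (one A) ⟶ F'.obj (one A))
    (hφ : ∀ a : A, F.map (mulA a) ≫ φ = φ ≫ F'.map (mulA a)) : ∃ t : F ⟶ F', t.app (one A) = φ := by
  haveI := additive_of_rightExact F
  haveI := additive_of_rightExact F'
  have hM : ∀ M, ∃ t : F.obj M ⟶ F'.obj M, ∀ s : one A ⟶ M, F.map s ≫ t = φ ≫ F'.map s := by
    intro M
    obtain ⟨n, k, a, π, w, ⟨hπ⟩, hsurj⟩ := exists_presentation M
    let T : F.obj (free A n) ⟶ F'.obj (free A n) := ∑ i, F.map (projA n i) ≫ φ ≫ F'.map (inclA n i)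
    have hT : ∀ s : one A ⟶ free A n, F.map s ≫ T = φ ≫ F'.map s := by
      intro s
      let x : Fin n → A := s.hom.hom (1 : A)
      have hx : ∀ i, s ≫ projA n i = mulA (x i) := fun i => by
        refine (fpMod A).ι.map_injective (ModuleCat.hom_ext (LinearMap.ext_ring ?_))
        exact (mul_one (x i)).symm
      calc F.map s ≫ T = ∑ i, φ ≫ F'.map (mulA (x i) ≫ inclA n i) := by
            rw [Preadditive.comp_sum]
            refine Finset.sum_congr rfl fun i _ => ?_
            rw [← F.map_comp_assoc, hx, ← Category.assoc, hφ, Category.assoc, ← F'.map_comp]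
        _ = φ ≫ F'.map s := by
            rw [← Preadditive.comp_sum, ← F'.map_sum, ← el_eq_sum, ← eq_el s]
    have hw : F.map a ≫ T ≫ F'.map π = 0 := by
      refine el_jointly_epi F _ _ _ fun s => ?_
      rw [← F.map_comp_assoc, ← Category.assoc, hT, Category.assoc, ← F'.map_comp, Category.assoc, w,
        comp_zero, F'.map_zero, comp_zero, comp_zero]
    obtain ⟨(l : F.obj M ⟶ F'.obj M), hl⟩ := CokernelCofork.IsColimit.desc' (CokernelCofork.mapIsColimit _ hπ F) (T ≫ F'.map π) hw
    refine ⟨l, fun s => ?_⟩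
    obtain ⟨x, hx⟩ := hsurj (s.hom.hom (1 : A))
    have hs : s = el (free A n) x ≫ π := by rw [el_comp, hx, ← eq_el s]
    have hl' : F.map π ≫ l = T ≫ F'.map π := hl
    rw [hs, F.map_comp, Category.assoc, hl', ← Category.assoc, hT, Category.assoc, ← F'.map_comp]
  choose t ht using hM
  refine ⟨{ app := t, naturality := fun M N f => el_jointly_epi F M _ _ fun s => ?_ }, ?_⟩
  · rw [← F.map_comp_assoc, ht, F'.map_comp, ← Category.assoc, ← ht M s, Category.assoc]
  · have := ht (one A) (𝟙 _)
    rwa [F.map_id, F'.map_id, Category.id_comp, Category.comp_id] at this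

end unique

section construct

variable {B : Type u'} [Category.{v'} B] [Preadditive B] (K : B) (κ : A →+* End K)

/-- Maps out of `K`, as a module. -/
def HomK (Z : B) : Type v' := K ⟶ Z

/-- A map out of `K`, as an element of the module. -/
abbrev HomK.mk {Z : B} (g : K ⟶ Z) : HomK K Z := g

/-- The underlying map. -/
abbrev HomK.toHom {Z : B} (g : HomK K Z) : K ⟶ Z := g

instance (Z : B) : AddCommGroup (HomK K Z) := inferInstanceAs (AddCommGroup (K ⟶ Z))

/-- The module structure on maps out of `K`. -/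
@[reducible]
def homKModule (Z : B) : Module A (HomK K Z) where
  smul a g := HomK.mk K ((κ a : K ⟶ K) ≫ HomK.toHom K g)
  one_smul g := by
    show (κ 1 : K ⟶ K) ≫ HomK.toHom K g = _
    rw [map_one]; exact Category.id_comp _
  mul_smul a b g := by
    show (κ (a * b) : K ⟶ K) ≫ HomK.toHom K g = (κ a : K ⟶ K) ≫ (κ b : K ⟶ K) ≫ HomK.toHom K g
    rw [mul_comm a b, map_mul]; exact Category.assoc _ _ _
  smul_zero a := comp_zero
  smul_add a g g' := Preadditive.comp_add _ _ _ _ _ _
  add_smul a b g := by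
    show (κ (a + b) : K ⟶ K) ≫ HomK.toHom K g = _
    rw [map_add]; exact Preadditive.add_comp _ _ _ _ _ _
  zero_smul g := by
    show (κ 0 : K ⟶ K) ≫ HomK.toHom K g = _
    rw [map_zero]; exact zero_comp

/-- An object representing linear maps into maps out of `K`. -/
structure Rep (M : Type u) [AddCommGroup M] [Module A M] where
  /-- the object -/
  obj : B
  /-- the universal map -/
  j : M → (K ⟶ obj)
  j_add : ∀ m m', j (m + m') = j m + j m'
  j_smul : ∀ (a : A) m, j (a • m) = (κ a : K ⟶ K) ≫ j m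
  /-- factorisation -/
  desc : ∀ {Z : B} (g : M → (K ⟶ Z)), (∀ m m', g (m + m') = g m + g m') →
    (∀ (a : A) m, g (a • m) = (κ a : K ⟶ K) ≫ g m) → (obj ⟶ Z)
  fac : ∀ {Z : B} (g : M → (K ⟶ Z)) (h₁ h₂) m, j m ≫ desc (Z := Z) g h₁ h₂ = g m
  hom_ext : ∀ {Z : B} (r r' : obj ⟶ Z), (∀ m, j m ≫ r = j m ≫ r') → r = r'

theorem nonempty_rep [HasFiniteBiproducts B] [HasCokernels B] (M : Type u) [AddCommGroup M] [Module A M]
    [Module.FinitePresentation A M] : Nonempty (Rep K κ M) := by
  classical
  obtain ⟨n, R, e, hR⟩ := Module.FinitePresentation.exists_fin A M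
  obtain ⟨k, g, hg⟩ := Submodule.fg_iff_exists_fin_generating_family.1 hR
  let Qn : B := ⨁ (fun _ : Fin n => K)
  letI : Module A (HomK K Qn) := homKModule K κ Qn
  let j₀ : (Fin n → A) →ₗ[A] HomK K Qn :=
    Fintype.linearCombination A fun i => HomK.mk K (biproduct.ι (fun _ : Fin n => K) i)
  let q : (⨁ (fun _ : Fin k => K)) ⟶ Qn := biproduct.desc fun l => HomK.toHom K (j₀ (g l))
  letI : Module A (HomK K (cokernel q)) := homKModule K κ (cokernel q)
  let post : HomK K Qn →ₗ[A] HomK K (cokernel q) :=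
    { toFun := fun s => HomK.mk K (HomK.toHom K s ≫ cokernel.π q)
      map_add' := fun s t => Preadditive.add_comp _ _ _ _ _ _
      map_smul' := fun a s => Category.assoc _ _ _ }
  have hle : R ≤ LinearMap.ker (post ∘ₗ j₀) := by
    rw [← hg, Submodule.span_le]
    rintro _ ⟨l, rfl⟩
    show HomK.toHom K (j₀ (g l)) ≫ cokernel.π q = 0
    have : biproduct.ι (fun _ : Fin k => K) l ≫ q = HomK.toHom K (j₀ (g l)) := biproduct.ι_desc _ _
    rw [← this, Category.assoc, cokernel.condition, comp_zero]
  let jl : M →ₗ[A] HomK K (cokernel q) := R.liftQ (post ∘ₗ j₀) hle ∘ₗ e.toLinearMap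
  have hπ : ∀ x : Fin n → A, jl (e.symm (R.mkQ x)) = post (j₀ x) := fun x => by
    show R.liftQ (post ∘ₗ j₀) hle (e (e.symm (R.mkQ x))) = _
    rw [LinearEquiv.apply_symm_apply]; rfl
  have hsingle : ∀ i, j₀ (Pi.single i 1) = HomK.mk K (biproduct.ι (fun _ : Fin n => K) i) := fun i => by
    rw [Fintype.linearCombination_apply_single, one_smul]
  let bd : ∀ {Z : B}, (M → (K ⟶ Z)) → (Qn ⟶ Z) := fun r =>
    biproduct.desc fun i => r (e.symm (R.mkQ (Pi.single i 1)))
  have hbd : ∀ {Z : B} (r : M → (K ⟶ Z)), (∀ m m', r (m + m') = r m + r m') →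
      (∀ (a : A) m, r (a • m) = (κ a : K ⟶ K) ≫ r m) → ∀ x, HomK.toHom K (j₀ x) ≫ bd r = r (e.symm (R.mkQ x)) := by
    intro Z r h₁ h₂ x
    letI : Module A (HomK K Z) := homKModule K κ Z
    let rl : M →ₗ[A] HomK K Z := { toFun := fun m => HomK.mk K (r m), map_add' := h₁, map_smul' := h₂ }
    let d : HomK K Qn →ₗ[A] HomK K Z :=
      { toFun := fun s => HomK.mk K (HomK.toHom K s ≫ bd r)
        map_add' := fun s t => Preadditive.add_comp _ _ _ _ _ _
        map_smul' := fun a s => Category.assoc _ _ _ }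
    have hd : d ∘ₗ j₀ = rl ∘ₗ (e.symm.toLinearMap ∘ₗ R.mkQ) := LinearMap.pi_ext' fun i => LinearMap.ext_ring (by
      show d (j₀ (Pi.single i 1)) = rl (e.symm (R.mkQ (Pi.single i 1)))
      rw [hsingle]
      exact biproduct.ι_desc _ _)
    exact congr(($hd) x)
  have hq : ∀ {Z : B} (r : M → (K ⟶ Z)), (∀ m m', r (m + m') = r m + r m') →
      (∀ (a : A) m, r (a • m) = (κ a : K ⟶ K) ≫ r m) → q ≫ bd r = 0 := by
    intro Z r h₁ h₂
    refine biproduct.hom_ext' _ _ fun l => ?_
    rw [biproduct.ι_desc_assoc, comp_zero, hbd r h₁ h₂,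
      show R.mkQ (g l) = 0 from (Submodule.Quotient.mk_eq_zero _).2 (hg ▸ Submodule.subset_span ⟨l, rfl⟩), map_zero]
    have := h₂ 0 0
    rw [zero_smul, map_zero] at this
    exact this.trans zero_comp
  refine ⟨⟨cokernel q, fun m => HomK.toHom K (jl m), fun m m' => jl.map_add m m',
    fun a m => jl.map_smul a m, fun {Z} r h₁ h₂ => cokernel.desc q (bd r) (hq r h₁ h₂),
    fun {Z} r h₁ h₂ m => ?_, fun {Z} r r' h => ?_⟩⟩
  · obtain ⟨x, hx⟩ := R.mkQ_surjective (e m)
    have hm : m = e.symm (R.mkQ x) := by rw [hx, LinearEquiv.symm_apply_apply]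
    rw [hm]
    show HomK.toHom K (jl (e.symm (R.mkQ x))) ≫ _ = _
    rw [hπ]
    show (HomK.toHom K (j₀ x) ≫ cokernel.π q) ≫ _ = _
    rw [Category.assoc, cokernel.π_desc]
    exact hbd r h₁ h₂ x
  · refine coequalizer.hom_ext (biproduct.hom_ext' _ _ fun i => ?_)
    have := h (e.symm (R.mkQ (Pi.single i 1)))
    rw [hπ, hsingle] at this
    exact (Category.assoc _ _ _).symm.trans ((this : _).trans (Category.assoc _ _ _))

theorem exists_functor [HasFiniteBiproducts B] [HasCokernels B] :
    ∃ (F : (fpMod A).FullSubcategory ⥤ B) (_ : PreservesFiniteColimits F) (e : F.obj (one A) ≅ K),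
      ∀ a : A, F.map (mulA a) ≫ e.hom = e.hom ≫ κ a := by
  let R : ∀ M : (fpMod A).FullSubcategory, Rep K κ M.obj := fun M =>
    (haveI : Module.FinitePresentation A M.obj := M.property; nonempty_rep K κ M.obj).some
  let F : (fpMod A).FullSubcategory ⥤ B :=
    { obj := fun M => (R M).obj
      map := fun {M N} f => (R M).desc (fun m => (R N).j (f.hom.hom m))
        (fun m m' => by rw [map_add, (R N).j_add]) (fun a m => by rw [map_smul, (R N).j_smul])
      map_id := fun M => (R M).hom_ext _ _ fun m => by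
        rw [(R M).fac, Category.comp_id]; rfl
      map_comp := fun {M N P} f g => (R M).hom_ext _ _ fun m => by
        rw [(R M).fac, ← Category.assoc, (R M).fac, (R N).fac]; rfl }
  have hFmap : ∀ {M N : (fpMod A).FullSubcategory} (f : M ⟶ N) m, (R M).j m ≫ F.map f = (R N).j (f.hom.hom m) :=
    fun f m => (R _).fac _ _ _ m
  haveI : F.Additive := ⟨fun {M N f g} => (R M).hom_ext _ _ fun m => by
    rw [hFmap, Preadditive.comp_add, hFmap, hFmap]
    exact (R N).j_add _ _⟩
  haveI hcok : ∀ {M N : (fpMod A).FullSubcategory} (f : M ⟶ N), PreservesColimit (parallelPair f 0) F := by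
    intro M N f
    haveI : Module.FinitePresentation A N.obj := N.property
    haveI : Module.FinitePresentation A M.obj := M.property
    have hC : Module.FinitePresentation A (N.obj ⧸ LinearMap.range f.hom.hom) :=
      Module.finitePresentation_of_surjective _ (Submodule.mkQ_surjective _) (by
        rw [Submodule.ker_mkQ]
        exact Module.Finite.fg_top.map f.hom.hom |> fun h => by rwa [Submodule.map_top] at h)
    let C : (fpMod A).FullSubcategory := ⟨ModuleCat.of A (N.obj ⧸ LinearMap.range f.hom.hom), hC⟩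
    let p : N ⟶ C := ObjectProperty.homMk (ModuleCat.ofHom (LinearMap.range f.hom.hom).mkQ)
    have w : f ≫ p = 0 := (fpMod A).ι.map_injective (ModuleCat.hom_ext (LinearMap.ext fun x =>
      (Submodule.Quotient.mk_eq_zero _).2 ⟨x, rfl⟩))
    haveI : Epi p.hom := (ModuleCat.epi_iff_surjective _).2 (Submodule.mkQ_surjective _)
    haveI : Epi p := (fpMod A).ι.epi_of_epi_map (inferInstanceAs (Epi p.hom))
    have hc : IsColimit (CokernelCofork.ofπ p w) := CokernelCofork.IsColimit.ofπ' p w fun {Z} q hq =>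
      ⟨ObjectProperty.homMk (ModuleCat.ofHom ((LinearMap.range f.hom.hom).liftQ q.hom.hom
        (LinearMap.range_le_ker_iff.2 (congrArg (fun t => t.hom.hom) hq)))),
        (fpMod A).ι.map_injective (ModuleCat.hom_ext (LinearMap.ext fun _ => rfl))⟩
    refine preservesColimit_of_preserves_colimit_cocone hc ((CokernelCofork.isColimitMapCoconeEquiv _ F).symm ?_)
    refine CokernelCofork.IsColimit.ofπ (F.map p) ((F.map_comp f p).symm.trans ((congrArg F.map w).trans (Functor.map_zero F _ _))) (fun {Z} h hh => ?_) (fun {Z} h hh => ?_) (fun {Z} h hh m hm => ?_)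
    · letI : Module A (HomK K Z) := homKModule K κ Z
      let hl : N.obj →ₗ[A] HomK K Z :=
        { toFun := fun x => HomK.mk K ((R N).j x ≫ h)
          map_add' := fun x y => (congrArg (· ≫ h) ((R N).j_add x y)).trans (Preadditive.add_comp _ _ _ _ _ _)
          map_smul' := fun a x => (congrArg (· ≫ h) ((R N).j_smul a x)).trans (Category.assoc _ _ _) }
      have hle : LinearMap.range f.hom.hom ≤ LinearMap.ker hl := by
        rintro _ ⟨x, rfl⟩
        show (R N).j (f.hom.hom x) ≫ h = 0
        rw [← hFmap, Category.assoc, hh, comp_zero]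
      let hb : C.obj →ₗ[A] HomK K Z := (LinearMap.range f.hom.hom).liftQ hl hle
      exact (R C).desc (fun c => HomK.toHom K (hb c)) (fun c c' => hb.map_add c c') (fun a c => hb.map_smul a c)
    · refine (R N).hom_ext _ _ fun x => ?_
      rw [← Category.assoc]
      refine (congrArg (· ≫ _) (hFmap p x)).trans ?_
      exact (R C).fac _ _ _ _
    · refine (R C).hom_ext _ _ fun c => ?_
      obtain ⟨x, rfl⟩ := Submodule.mkQ_surjective _ c
      refine Eq.trans ?_ ((R C).fac _ _ _ _).symm
      show (R C).j (p.hom.hom x) ≫ m = (R N).j x ≫ h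
      rw [← hFmap, Category.assoc, hm]
  haveI : HasFiniteCoproducts (fpMod A).FullSubcategory := hasFiniteCoproducts_of_hasFiniteColimits _
  haveI : HasFiniteBiproducts (fpMod A).FullSubcategory := HasFiniteBiproducts.of_hasFiniteCoproducts
  haveI : HasBinaryBiproducts (fpMod A).FullSubcategory := hasBinaryBiproducts_of_finite_biproducts _
  refine ⟨F, Functor.preservesFiniteColimits_of_preservesCokernels F,
    { hom := (R (one A)).desc (fun a => (κ a : K ⟶ K)) (fun a b => map_add κ a b) (fun a b => ?_)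
      inv := (R (one A)).j (1 : A)
      hom_inv_id := (R (one A)).hom_ext _ _ fun a => ?_
      inv_hom_id := ?_ }, fun a => (R (one A)).hom_ext _ _ fun b => ?_⟩
  · show κ (a * b) = (κ a : K ⟶ K) ≫ (κ b : K ⟶ K)
    rw [mul_comm, map_mul]; rfl
  · rw [← Category.assoc, (R (one A)).fac, Category.comp_id, ← (R (one A)).j_smul]
    exact congrArg _ (mul_one a)
  · rw [(R (one A)).fac, map_one]; rfl
  · rw [← Category.assoc, hFmap, (R (one A)).fac, ← Category.assoc, (R (one A)).fac]
    show κ (a * b) = κ b ≫ κ a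
    rw [map_mul]; rfl

end construct

end Groth.Agent.IndExt
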