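import Groth.Agent.IndExt.Arrow
import Mathlib.CategoryTheory.Limits.FunctorCategory.Basic
import Mathlib.CategoryTheory.Limits.Preserves.Limits
import Mathlib.CategoryTheory.Limits.Shapes.Kernels

/-!
# Exactness of extended functors
-/

set_option autoImplicit false

universe w v' u' v u s t

open CategoryTheory CategoryTheory.Limits

namespace Groth.Agent.IndExt

variable {C : Type u} [Category.{v} C] {S : Type s} [Category.{t} S] [EssentiallySmall.{w} S]
  [LocallySmall.{w} C] (L : S ⥤ C) [∀ Y : C, IsFiltered (CostructuredArrow L Y)] [L.IsDense]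
  {B : Type u'} [Category.{v'} B]

instance locallySmall_arrow : LocallySmall.{w} (Arrow C) where
  hom_small a b := small_of_injective (f := fun g : a ⟶ b => (equivShrink _ g.left, equivShrink _ g.right))
    fun g g' h => Arrow.hom_ext _ _ ((equivShrink _).injective (congrArg Prod.fst h))
      ((equivShrink _).injective (congrArg Prod.snd h))

include L in
/-- A morphism is a filtered colimit of morphisms between compact objects. -/
theorem exists_arrow_presentation {M N : C} (f : M ⟶ N) :
    ∃ (J : Type w) (_ : SmallCategory J) (_ : IsFiltered J) (P : J ⥤ Arrow S)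
      (c₁ : Cocone ((P ⋙ Arrow.leftFunc) ⋙ L)) (_ : IsColimit c₁)
      (c₂ : Cocone ((P ⋙ Arrow.rightFunc) ⋙ L)) (_ : IsColimit c₂) (e₁ : c₁.pt ≅ M) (e₂ : c₂.pt ≅ N),
      ∀ j, c₁.ι.app j ≫ e₁.hom ≫ f = L.map (P.obj j).hom ≫ c₂.ι.app j ≫ e₂.hom := by
  haveI : EssentiallySmall.{w} (Arrow S) :=
    EssentiallySmall.mk' (equivSmallModel.{w} S |> Functor.mapArrowEquivalence)
  let e := equivSmallModel.{w} (ArrIx L f)
  haveI : IsFiltered (SmallModel.{w} (ArrIx L f)) := IsFiltered.of_equivalence e
  refine ⟨SmallModel.{w} (ArrIx L f), inferInstance, inferInstance,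
    e.inverse ⋙ CostructuredArrow.proj L.mapArrow (Arrow.mk f),
    Cocone.whisker (e.inverse ⋙ srcProj L f) ((Functor.LeftExtension.mk (𝟭 C) L.rightUnitor.inv).coconeAt M),
    (Functor.Final.isColimitWhiskerEquiv (e.inverse ⋙ srcProj L f) _).symm (L.denseAt M),
    Cocone.whisker (e.inverse ⋙ tgtProj L f) ((Functor.LeftExtension.mk (𝟭 C) L.rightUnitor.inv).coconeAt N),
    (Functor.Final.isColimitWhiskerEquiv (e.inverse ⋙ tgtProj L f) _).symm (L.denseAt N),
    Iso.refl _, Iso.refl _, fun j => ?_⟩
  show (𝟙 _ ≫ (e.inverse.obj j).hom.left) ≫ 𝟙 M ≫ f =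
    L.map (e.inverse.obj j).left.hom ≫ (𝟙 _ ≫ (e.inverse.obj j).hom.right) ≫ 𝟙 N
  erw [Category.id_comp, Category.id_comp, Category.id_comp, Category.comp_id]
  exact sq L f _

variable [HasZeroMorphisms C] [HasZeroMorphisms B] [HasColimitsOfSize.{w, w} C]
  [HasFilteredColimitsOfSize.{w, w} B]

/-- The diagram of a morphism is the colimit of diagrams between compact objects. -/
noncomputable def diagIso {J : Type w} [SmallCategory J] {P : J ⥤ Arrow S} {M N : C} {f : M ⟶ N}
    (α : (P ⋙ Arrow.leftFunc) ⋙ L ⟶ (P ⋙ Arrow.rightFunc) ⋙ L)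
    (c₁ : Cocone ((P ⋙ Arrow.leftFunc) ⋙ L)) (h₁ : IsColimit c₁)
    (c₂ : Cocone ((P ⋙ Arrow.rightFunc) ⋙ L)) (h₂ : IsColimit c₂) (e₁ : c₁.pt ≅ M) (e₂ : c₂.pt ≅ N)
    (w : ∀ j, c₁.ι.app j ≫ e₁.hom ≫ f = α.app j ≫ c₂.ι.app j ≫ e₂.hom) :
    parallelPair α 0 ⋙ colim ≅ parallelPair f 0 :=
  parallelPair.ext ((colimit.isColimit _).coconePointUniqueUpToIso h₁ ≪≫ e₁)
    ((colimit.isColimit _).coconePointUniqueUpToIso h₂ ≪≫ e₂)
    (colimit.hom_ext fun j => by
      show colimit.ι _ j ≫ colimMap α ≫ _ = colimit.ι _ j ≫ (_ ≫ _) ≫ f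
      rw [ι_colimMap_assoc, Iso.trans_hom]
      refine (congrArg (α.app j ≫ ·) ((Category.assoc _ _ _).symm.trans
        (congrArg (· ≫ e₂.hom) (IsColimit.comp_coconePointUniqueUpToIso_hom (colimit.isColimit _) h₂ j)))).trans ?_
      refine (w j).symm.trans ?_
      refine Eq.trans ?_ (congrArg (colimit.ι _ j ≫ ·) (Category.assoc _ _ _).symm)
      exact (congrArg (· ≫ e₁.hom ≫ f)
        (IsColimit.comp_coconePointUniqueUpToIso_hom (colimit.isColimit _) h₁ j).symm).trans (Category.assoc _ _ _))
    (colimit.hom_ext fun j => by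
      show colimit.ι _ j ≫ colimMap (0 : (P ⋙ Arrow.leftFunc) ⋙ L ⟶ (P ⋙ Arrow.rightFunc) ⋙ L) ≫ _ =
        colimit.ι _ j ≫ (_ ≫ _) ≫ 0
      rw [ι_colimMap_assoc]
      simp)

/-- Left exactness of the extension. -/
theorem preservesKernels_of_compact [HasFiniteLimits C]
    (hC : ∀ (J : Type w) [SmallCategory J] [IsFiltered J],
      PreservesLimitsOfShape WalkingParallelPair (colim : (J ⥤ C) ⥤ C))
    (hB : ∀ (J : Type w) [SmallCategory J] [IsFiltered J],
      PreservesLimitsOfShape WalkingParallelPair (colim : (J ⥤ B) ⥤ B))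
    (G : C ⥤ B) [PreservesFilteredColimitsOfSize.{w, w} G]
    (hker : ∀ {p q : S} (a : p ⟶ q), PreservesLimit (parallelPair (L.map a) 0) G)
    {M N : C} (f : M ⟶ N) : PreservesLimit (parallelPair f 0) G := by
  obtain ⟨J, _, _, P, c₁, h₁, c₂, h₂, e₁, e₂, w⟩ := exists_arrow_presentation L f
  let α : (P ⋙ Arrow.leftFunc) ⋙ L ⟶ (P ⋙ Arrow.rightFunc) ⋙ L :=
    Functor.whiskerRight (Functor.whiskerLeft P Arrow.leftToRight) L
  haveI := hC J
  haveI := hB J
  have hk : ∀ j, PreservesLimit (parallelPair α 0 ⋙ (evaluation J C).obj j) G := fun j => by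
    haveI := hker (P.obj j).hom
    exact preservesLimit_of_iso_diagram G
      (parallelPair.ext (F := parallelPair (L.map (P.obj j).hom) 0) (G := parallelPair α 0 ⋙ (evaluation J C).obj j)
        (Iso.refl _) (Iso.refl _) ((Category.comp_id _).trans (Category.id_comp _).symm)
        ((Category.comp_id _).trans (Category.id_comp _).symm))
  haveI : PreservesLimit (parallelPair α 0) ((Functor.whiskeringRight J C B).obj G) :=
    preservesLimit_of_evaluation _ _ fun j =>
      haveI := hk j
      preservesLimit_of_natIso (parallelPair α 0) (F := (evaluation J C).obj j ⋙ G)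
        (NatIso.ofComponents (fun X => Iso.refl _) (fun X => (Category.comp_id _).trans (Category.id_comp _).symm))
  haveI hT : PreservesLimit (parallelPair α 0) (colim ⋙ G) :=
    preservesLimit_of_natIso (parallelPair α 0) (preservesColimitNatIso G).symm
  haveI : PreservesLimit (parallelPair α 0 ⋙ colim) G :=
    preservesLimit_of_preserves_limit_cone (isLimitOfPreserves colim (limit.isLimit (parallelPair α 0)))
      (isLimitOfPreserves (colim ⋙ G) (limit.isLimit (parallelPair α 0)))
  exact preservesLimit_of_iso_diagram G (diagIso L α c₁ h₁ c₂ h₂ e₁ e₂ w)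

/-- Right exactness of the extension. -/
theorem preservesCokernels_of_compact [HasFiniteColimits C]
    (G : C ⥤ B) [PreservesFilteredColimitsOfSize.{w, w} G]
    (hcoker : ∀ {p q : S} (a : p ⟶ q), PreservesColimit (parallelPair (L.map a) 0) G)
    {M N : C} (f : M ⟶ N) : PreservesColimit (parallelPair f 0) G := by
  obtain ⟨J, _, _, P, c₁, h₁, c₂, h₂, e₁, e₂, w⟩ := exists_arrow_presentation L f
  let α : (P ⋙ Arrow.leftFunc) ⋙ L ⟶ (P ⋙ Arrow.rightFunc) ⋙ L :=
    Functor.whiskerRight (Functor.whiskerLeft P Arrow.leftToRight) L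
  have hk : ∀ j, PreservesColimit (parallelPair α 0 ⋙ (evaluation J C).obj j) G := fun j => by
    haveI := hcoker (P.obj j).hom
    exact preservesColimit_of_iso_diagram G
      (parallelPair.ext (F := parallelPair (L.map (P.obj j).hom) 0) (G := parallelPair α 0 ⋙ (evaluation J C).obj j)
        (Iso.refl _) (Iso.refl _) ((Category.comp_id _).trans (Category.id_comp _).symm)
        ((Category.comp_id _).trans (Category.id_comp _).symm))
  haveI : PreservesColimit (parallelPair α 0) ((Functor.whiskeringRight J C B).obj G) :=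
    preservesColimit_of_evaluation _ _ fun j =>
      haveI := hk j
      preservesColimit_of_natIso (parallelPair α 0) (F := (evaluation J C).obj j ⋙ G)
        (NatIso.ofComponents (fun X => Iso.refl _) (fun X => (Category.comp_id _).trans (Category.id_comp _).symm))
  haveI hT : PreservesColimit (parallelPair α 0) (colim ⋙ G) :=
    preservesColimit_of_natIso (parallelPair α 0) (preservesColimitNatIso G).symm
  haveI : PreservesColimit (parallelPair α 0 ⋙ colim) G :=
    preservesColimit_of_preserves_colimit_cocone (isColimitOfPreserves colim (colimit.isColimit (parallelPair α 0)))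
      (isColimitOfPreserves (colim ⋙ G) (colimit.isColimit (parallelPair α 0)))
  exact preservesColimit_of_iso_diagram G (diagIso L α c₁ h₁ c₂ h₂ e₁ e₂ w)

omit [EssentiallySmall.{w} S] [LocallySmall.{w} C] [∀ Y : C, IsFiltered (CostructuredArrow L Y)] [L.IsDense]
  [HasColimitsOfSize.{w, w} C] [HasFilteredColimitsOfSize.{w, w} B] in
/-- Preservation of kernels along a restriction. -/
theorem preservesLimit_of_comp {K : Type} [SmallCategory K] (D : K ⥤ S) [HasLimit D] (G : C ⥤ B)
    [PreservesLimit D L] [PreservesLimit D (L ⋙ G)] : PreservesLimit (D ⋙ L) G :=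
  preservesLimit_of_preserves_limit_cone (isLimitOfPreserves L (limit.isLimit D))
    (isLimitOfPreserves (L ⋙ G) (limit.isLimit D))

omit [EssentiallySmall.{w} S] [LocallySmall.{w} C] [∀ Y : C, IsFiltered (CostructuredArrow L Y)] [L.IsDense]
  [HasColimitsOfSize.{w, w} C] [HasFilteredColimitsOfSize.{w, w} B] in
/-- Preservation of cokernels along a restriction. -/
theorem preservesColimit_of_comp {K : Type} [SmallCategory K] (D : K ⥤ S) [HasColimit D] (G : C ⥤ B)
    [PreservesColimit D L] [PreservesColimit D (L ⋙ G)] : PreservesColimit (D ⋙ L) G :=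
  preservesColimit_of_preserves_colimit_cocone (isColimitOfPreserves L (colimit.isColimit D))
    (isColimitOfPreserves (L ⋙ G) (colimit.isColimit D))

end Groth.Agent.IndExt
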