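import Mathlib.CategoryTheory.Functor.KanExtension.Dense
import Mathlib.CategoryTheory.Presentable.Finite
import Mathlib.CategoryTheory.Comma.StructuredArrow.Small
import Mathlib.CategoryTheory.Limits.Preserves.Filtered

/-!
# Extending functors from compact objects
-/

set_option autoImplicit false

universe w v' u' v u s t

open CategoryTheory CategoryTheory.Limits

namespace Groth.Agent.IndExt

variable {C : Type u} [Category.{v} C] {S : Type s} [Category.{t} S] [EssentiallySmall.{w} S]
  [LocallySmall.{w} C] (L : S ⥤ C) [∀ Y : C, IsFiltered (CostructuredArrow L Y)]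
  {B : Type u'} [Category.{v'} B]

include L in
theorem hasColimitsOfShape_costructuredArrow [HasFilteredColimitsOfSize.{w, w} B] (Y : C) :
    HasColimitsOfShape (CostructuredArrow L Y) B := by
  haveI : IsFiltered (SmallModel.{w} (CostructuredArrow L Y)) :=
    IsFiltered.of_equivalence (equivSmallModel.{w} (CostructuredArrow L Y))
  exact hasColimitsOfShape_of_equivalence (equivSmallModel.{w} (CostructuredArrow L Y)).symm

theorem hasPointwiseLKE [HasFilteredColimitsOfSize.{w, w} B] (F : S ⥤ B) :
    L.HasPointwiseLeftKanExtension F := fun Y =>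
  haveI := hasColimitsOfShape_costructuredArrow L (B := B) Y
  inferInstanceAs (HasColimit _)

variable {L}

/-- A pointwise left Kan extension along compact objects preserves filtered colimits. -/
theorem preservesFilteredColimits_of_pointwise [∀ p, IsFinitelyPresentable.{w} (L.obj p)] {F : S ⥤ B}
    (G : C ⥤ B) (α : F ⟶ L ⋙ G) (hG : (Functor.LeftExtension.mk G α).IsPointwiseLeftKanExtension) :
    PreservesFilteredColimitsOfSize.{w, w} G := by
  refine ⟨fun K _ _ => ⟨fun {D} => ⟨fun {c} hc => ?_⟩⟩⟩
  have indep : ∀ (s : Cocone (D ⋙ G)) (p : S) {i j : K} (g : L.obj p ⟶ D.obj i) (g' : L.obj p ⟶ D.obj j),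
      g ≫ c.ι.app i = g' ≫ c.ι.app j → G.map g ≫ s.ι.app i = G.map g' ≫ s.ι.app j := by
    intro s p i j g g' h
    obtain ⟨k, a, b, hk⟩ := IsFinitelyPresentable.exists_eq_of_isColimit hc g g' h
    rw [← s.w a, ← s.w b]
    show G.map g ≫ G.map (D.map a) ≫ _ = G.map g' ≫ G.map (D.map b) ≫ _
    rw [← G.map_comp_assoc, hk, G.map_comp_assoc]
  choose k g hg using fun j : CostructuredArrow L c.pt => IsFinitelyPresentable.exists_hom_of_isColimit hc j.hom
  let w : ∀ s : Cocone (D ⋙ G), Cocone (CostructuredArrow.proj L c.pt ⋙ F) := fun s =>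
    { pt := s.pt
      ι :=
        { app := fun j => α.app j.left ≫ G.map (g j) ≫ s.ι.app (k j)
          naturality := fun i j a => by
            show F.map a.left ≫ α.app j.left ≫ G.map (g j) ≫ s.ι.app (k j) =
              (α.app i.left ≫ G.map (g i) ≫ s.ι.app (k i)) ≫ 𝟙 _
            rw [Category.comp_id, ← Category.assoc, α.naturality a.left]
            show (α.app i.left ≫ G.map (L.map a.left)) ≫ _ = _
            rw [Category.assoc, ← G.map_comp_assoc,
              indep s i.left (L.map a.left ≫ g j) (g i) (by rw [Category.assoc, hg, hg, CostructuredArrow.w])] } }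
  refine ⟨{ desc := fun s => (hG c.pt).desc (w s), fac := fun s i => ?_, uniq := fun s m hm => ?_ }⟩
  · refine (hG (D.obj i)).hom_ext fun j => ?_
    have h : (α.app j.left ≫ G.map (j.hom ≫ c.ι.app i)) ≫ (hG c.pt).desc (w s) =
        (w s).ι.app (CostructuredArrow.mk (j.hom ≫ c.ι.app i)) :=
      (hG c.pt).fac (w s) (CostructuredArrow.mk (j.hom ≫ c.ι.app i))
    show (α.app j.left ≫ G.map j.hom) ≫ G.map (c.ι.app i) ≫ (hG c.pt).desc (w s) =
      (α.app j.left ≫ G.map j.hom) ≫ s.ι.app i
    refine Eq.trans ?_ ((h.trans (congrArg (α.app j.left ≫ ·) (indep s j.left _ j.hom (hg _)))).trans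
      (Category.assoc (α.app j.left) (G.map j.hom) (s.ι.app i)).symm)
    rw [G.map_comp]
    simp only [Category.assoc]
    all_goals exact (congrArg (α.app j.left ≫ ·) (Category.assoc _ _ _).symm).trans (Category.assoc _ _ _).symm
  · refine (hG c.pt).hom_ext fun j => ?_
    refine Eq.trans ?_ ((hG c.pt).fac (w s) j).symm
    show (α.app j.left ≫ G.map j.hom) ≫ m = α.app j.left ≫ G.map (g j) ≫ s.ι.app (k j)
    have hm' : G.map (c.ι.app (k j)) ≫ m = s.ι.app (k j) := hm (k j)
    rw [Category.assoc, ← hm', ← G.map_comp_assoc, hg]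

variable (L)

/-- Existence of the extension. -/
theorem exists_extension [HasFilteredColimitsOfSize.{w, w} B] [L.Full] [L.Faithful]
    [∀ p, IsFinitelyPresentable.{w} (L.obj p)] (F : S ⥤ B) :
    ∃ G : C ⥤ B, PreservesFilteredColimitsOfSize.{w, w} G ∧ Nonempty (L ⋙ G ≅ F) := by
  haveI := hasPointwiseLKE L F
  let h := L.pointwiseLeftKanExtensionIsPointwiseLeftKanExtension F
  haveI : IsIso (L.pointwiseLeftKanExtensionUnit F) := h.isIso_hom
  exact ⟨L.pointwiseLeftKanExtension F, preservesFilteredColimits_of_pointwise _ _ h,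
    ⟨(asIso (L.pointwiseLeftKanExtensionUnit F)).symm⟩⟩

/-- A functor preserving filtered colimits is the extension of its restriction. -/
theorem isLeftKanExtension_of_preserves [L.IsDense] (G : C ⥤ B) [PreservesFilteredColimitsOfSize.{w, w} G] :
    G.IsLeftKanExtension (𝟙 (L ⋙ G)) := by
  have h : (Functor.LeftExtension.mk G (𝟙 (L ⋙ G))).IsPointwiseLeftKanExtension := fun Y => by
    haveI : IsFiltered (SmallModel.{w} (CostructuredArrow L Y)) :=
      IsFiltered.of_equivalence (equivSmallModel.{w} (CostructuredArrow L Y))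
    haveI : PreservesColimitsOfShape (CostructuredArrow L Y) G :=
      preservesColimitsOfShape_of_equiv (equivSmallModel.{w} (CostructuredArrow L Y)).symm G
    refine IsColimit.ofIsoColimit (isColimitOfPreserves G (L.denseAt Y)) (Cocone.ext (Iso.refl _) fun j => ?_)
    show G.map (𝟙 (L.obj j.left) ≫ j.hom) ≫ 𝟙 _ = 𝟙 _ ≫ G.map j.hom
    erw [Category.id_comp, Category.comp_id, Category.id_comp]
  exact h.isLeftKanExtension

/-- Uniqueness of the extension. -/
theorem extension_unique [L.IsDense] (G₁ G₂ : C ⥤ B) [PreservesFilteredColimitsOfSize.{w, w} G₁]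
    [PreservesFilteredColimitsOfSize.{w, w} G₂] (e : L ⋙ G₁ ≅ L ⋙ G₂) : Nonempty (G₁ ≅ G₂) := by
  haveI := isLeftKanExtension_of_preserves L G₁
  haveI := isLeftKanExtension_of_preserves L G₂
  exact ⟨G₁.leftKanExtensionUniqueOfIso (𝟙 _) e G₂ (𝟙 _)⟩

end Groth.Agent.IndExt
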