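import Groth.Agent.IndExt.ModFP
import Mathlib.Algebra.Category.ModuleCat.Abelian
import Mathlib.CategoryTheory.ObjectProperty.FiniteProducts
import Mathlib.CategoryTheory.ObjectProperty.Kernels
import Mathlib.CategoryTheory.Abelian.Subcategory
import Mathlib.CategoryTheory.Category.ULift

/-!
# Closure properties of modules of finite presentation
-/

set_option autoImplicit false

universe u

open CategoryTheory CategoryTheory.Limits

namespace Groth.Agent.IndExt

variable (A : Type u) [CommRing A]

instance fpMod_closedFinite (J : Type) [SmallCategory J] [FinCategory J] :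
    (fpMod A).IsClosedUnderColimitsOfShape J :=
  haveI : (fpMod A).IsClosedUnderColimitsOfShape (AsSmall.{u} J) := ⟨fun M hM => by
    haveI : FinCategory (AsSmall.{u} J) :=
      FinCategory.mk (fintypeObj := inferInstanceAs (Fintype (ULift.{u} J)))
        (fintypeHom := fun a b => inferInstanceAs (Fintype (ULift.{u} (ULift.down a ⟶ ULift.down b))))
    exact fpMod_colimit hM.some⟩
  .of_equivalence (AsSmall.equiv (C := J)).symm

instance : HasFiniteColimits (fpMod A).FullSubcategory :=
  ⟨fun _ _ _ => inferInstance⟩

instance : PreservesFiniteColimits (fpMod A).ι :=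
  ⟨fun _ _ _ => inferInstance⟩

end Groth.Agent.IndExt
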