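import Mathlib.Algebra.Category.ModuleCat.FilteredColimits
import Mathlib.Algebra.Category.ModuleCat.Biproducts
import Mathlib.Algebra.Category.ModuleCat.Kernels
import Mathlib.Algebra.Category.ModuleCat.Colimits
import Mathlib.Algebra.Module.FinitePresentation
import Mathlib.CategoryTheory.Presentable.Dense
import Mathlib.CategoryTheory.Presentable.StrongGenerator

/-!
# Modules of finite presentation are the compact objects
-/

set_option autoImplicit false

universe u

open CategoryTheory CategoryTheory.Limits Opposite Cardinal

namespace Groth.Agent.IndExt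

attribute [local instance] fact_isRegular_aleph0

variable (A : Type u) [CommRing A]

/-- Modules of finite presentation. -/
abbrev fpMod : ObjectProperty (ModuleCat.{u} A) := fun M => Module.FinitePresentation A M

instance : (fpMod A).IsClosedUnderIsomorphisms where
  of_iso e h := Module.finitePresentation_of_surjective e.toLinearEquiv.toLinearMap e.toLinearEquiv.surjective
    (by rw [LinearEquiv.ker]; exact Submodule.fg_bot)

variable {A}

theorem fpMod_colimit {J : Type u} [SmallCategory J] [Finite (Arrow J)] {M : ModuleCat.{u} A}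
    (h : (fpMod A).ColimitOfShape J M) : Module.FinitePresentation A M := by
  classical
  haveI : Finite J := Finite.of_injective (fun j => Arrow.mk (𝟙 j)) fun a b e => congrArg Arrow.leftFunc.obj e
  haveI := Fintype.ofFinite J
  haveI := Fintype.ofFinite (Arrow J)
  let D := h.diag
  haveI : ∀ j, Module.FinitePresentation A (D.obj j) := h.prop_diag_obj
  let π₀ : (∀ j, D.obj j) →ₗ[A] M := ∑ j, (h.ι.app j).hom ∘ₗ LinearMap.proj j
  have hπ : ∀ j x, π₀ (Pi.single j x) = (h.ι.app j).hom x := fun j x => by
    simp only [π₀, LinearMap.sum_apply, LinearMap.coe_comp, Function.comp_apply, LinearMap.proj_apply]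
    rw [Finset.sum_eq_single j]
    · rw [Pi.single_eq_same]
    · intro b _ hb; rw [Pi.single_eq_of_ne hb, map_zero]
    · intro hj; exact absurd (Finset.mem_univ j) hj
  let r : (∀ a : Arrow J, D.obj a.left) →ₗ[A] (∀ j, D.obj j) :=
    ∑ a : Arrow J, (LinearMap.single A (fun j => D.obj j) a.right ∘ₗ (D.map a.hom).hom -
      LinearMap.single A (fun j => D.obj j) a.left) ∘ₗ LinearMap.proj a
  have hr : π₀ ∘ₗ r = 0 := by
    refine LinearMap.ext fun x => ?_
    simp only [r, LinearMap.coe_comp, Function.comp_apply, LinearMap.sum_apply, LinearMap.sub_apply,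
      LinearMap.coe_single, LinearMap.proj_apply, map_sum, map_sub, hπ, LinearMap.zero_apply]
    refine Finset.sum_eq_zero fun a _ => ?_
    rw [sub_eq_zero]
    exact congr(($(h.ι.naturality a.hom)).hom (x a)).trans rfl
  let q : ∀ j, D.obj j →ₗ[A] ((∀ j, D.obj j) ⧸ LinearMap.range r) :=
    fun j => (LinearMap.range r).mkQ ∘ₗ LinearMap.single A (fun j => D.obj j) j
  let c : Cocone D :=
    { pt := ModuleCat.of A ((∀ j, D.obj j) ⧸ LinearMap.range r)
      ι :=
        { app := fun j => ModuleCat.ofHom (q j)
          naturality := fun i j f => by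
            refine ModuleCat.hom_ext (LinearMap.ext fun x => ?_)
            show q j ((D.map f).hom x) = q i x
            refine (Submodule.Quotient.eq _).2 ⟨Pi.single (Arrow.mk f) x, ?_⟩
            simp only [r, LinearMap.sum_apply, LinearMap.coe_comp, Function.comp_apply, LinearMap.sub_apply,
              LinearMap.coe_single, LinearMap.proj_apply]
            rw [Finset.sum_eq_single (Arrow.mk f)]
            · rw [Pi.single_eq_same]; rfl
            · intro b _ hb; simp [Pi.single_eq_of_ne hb]
            · intro hj; exact absurd (Finset.mem_univ _) hj } }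
  let l : M ⟶ c.pt := h.isColimit.desc c
  have hl : ∀ j, h.ι.app j ≫ l = c.ι.app j := h.isColimit.fac c
  have hlπ : l.hom ∘ₗ π₀ = (LinearMap.range r).mkQ := by
    refine LinearMap.pi_ext fun j x => ?_
    rw [LinearMap.comp_apply, hπ]
    exact congr(($(hl j)).hom x)
  have hid : π₀.rangeRestrict.range = ⊤ := LinearMap.range_rangeRestrict _
  have hsurj : Function.Surjective π₀ := by
    let p : c.pt ⟶ M := ModuleCat.ofHom ((LinearMap.range r).liftQ π₀ (LinearMap.range_le_ker_iff.2 hr))
    have hp : l ≫ p = 𝟙 M := h.isColimit.hom_ext fun j => by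
      rw [← Category.assoc]
      refine (congrArg (· ≫ p) (hl j)).trans ?_
      refine ModuleCat.hom_ext (LinearMap.ext fun x => ?_)
      exact hπ j x
    intro m
    obtain ⟨y, hy⟩ := Submodule.mkQ_surjective _ (l.hom m)
    refine ⟨y, ?_⟩
    have := congr(($hp).hom m)
    refine Eq.trans ?_ this
    show π₀ y = p.hom (l.hom m)
    rw [← hy]
    rfl
  refine Module.finitePresentation_of_surjective π₀ hsurj ?_
  have hker : LinearMap.ker π₀ = LinearMap.range r := by
    refine le_antisymm (fun x hx => ?_) (LinearMap.range_le_ker_iff.2 hr)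
    have := congr(($hlπ) x)
    rw [LinearMap.comp_apply, LinearMap.mem_ker.1 hx, map_zero] at this
    exact (Submodule.Quotient.mk_eq_zero _).1 this.symm
  rw [hker]
  haveI : Module.Finite A (∀ a : Arrow J, D.obj a.left) := inferInstance
  exact (Module.Finite.fg_top).map r |> fun h => by rwa [Submodule.map_top] at h

variable (A)

/-- The free module of rank one. -/
abbrev genOne : ObjectProperty (ModuleCat.{u} A) := ObjectProperty.singleton (ModuleCat.of A A)

theorem isStrongGenerator_genOne : (genOne A).IsStrongGenerator := by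
  rw [ObjectProperty.isStrongGenerator_iff]
  refine ⟨fun M N f g h => ModuleCat.hom_ext (LinearMap.ext fun m => ?_), fun M N i _ h => ?_⟩
  · have := congr(($(h _ (by simp) (ModuleCat.ofHom (LinearMap.toSpanSingleton A M m)))).hom (1 : A))
    simpa using this
  · refine (ConcreteCategory.isIso_iff_bijective i).2 ⟨(ModuleCat.mono_iff_injective i).1 ‹_›, fun n => ?_⟩
    obtain ⟨f, hf⟩ := h _ (by simp) (ModuleCat.ofHom (LinearMap.toSpanSingleton A N n))
    refine ⟨f.hom (1 : A), ?_⟩
    refine Eq.trans (congr(($hf).hom (1 : A))) ?_
    simp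

/-- Maps out of the free module of rank one. -/
noncomputable def coyonedaOneIso :
    coyoneda.obj (op (ModuleCat.of A A)) ≅ CategoryTheory.forget (ModuleCat.{u} A) :=
  NatIso.ofComponents (fun M => Equiv.toIso
    { toFun := fun f => f.hom (1 : A)
      invFun := fun m => ModuleCat.ofHom (LinearMap.toSpanSingleton A M m)
      left_inv := fun f => ModuleCat.hom_ext (LinearMap.ext_ring (by simp))
      right_inv := fun m => by simp })

theorem genOne_le : genOne A ≤ isCardinalPresentable (ModuleCat.{u} A) (ℵ₀ : Cardinal.{u}) := by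
  intro M hM
  obtain rfl := (ObjectProperty.singleton_iff _ _).1 hM
  haveI : PreservesFilteredColimitsOfSize.{u, u} (CategoryTheory.forget (ModuleCat.{u} A)) := inferInstance
  haveI : PreservesFilteredColimitsOfSize.{u, u} (coyoneda.obj (op (ModuleCat.of A A))) :=
    ⟨fun J _ _ => preservesColimitsOfShape_of_natIso (coyonedaOneIso A).symm⟩
  exact isFinitelyPresentable_iff_preservesFilteredColimitsOfSize.2 inferInstance

/-- The category of modules is locally finitely presentable. -/
theorem isLfp : IsCardinalLocallyPresentable (ModuleCat.{u} A) (ℵ₀ : Cardinal.{u}) :=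
  (IsCardinalLocallyPresentable.iff_exists_isStrongGenerator _ _).2
    ⟨genOne A, inferInstance, isStrongGenerator_genOne A, genOne_le A⟩

theorem fpMod_le_closure : fpMod A ≤ (genOne A).colimitsCardinalClosure (ℵ₀ : Cardinal.{u}) := by
  intro M (hM : Module.FinitePresentation A M)
  let P := (genOne A).colimitsCardinalClosure (ℵ₀ : Cardinal.{u})
  obtain ⟨n, K, e, hK⟩ := Module.FinitePresentation.exists_fin A M
  have hfree : ∀ m : ℕ, P (ModuleCat.of A (Fin m → A)) := fun m => by
    have hlt : HasCardinalLT (Arrow (Discrete (ULift.{u} (Fin m)))) ℵ₀ := by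
      rw [hasCardinalLT_aleph0_iff]; infer_instance
    haveI : P.IsClosedUnderColimitsOfShape (Discrete (ULift.{u} (Fin m))) :=
      ObjectProperty.isClosedUnderColimitsOfShape_colimitsCardinalClosure _ _ _ hlt
    haveI : P.IsClosedUnderColimitsOfShape (Discrete (Fin m)) :=
      .of_equivalence (Discrete.equivalence Equiv.ulift : Discrete (ULift.{u} (Fin m)) ≌ Discrete (Fin m))
    let T : Fin m → ModuleCat.{u} A := fun _ => ModuleCat.of A A
    have h1 : P (⨁ T) := P.prop_of_isColimit (biproduct.isColimit T)
      fun j => (genOne A).le_colimitsCardinalClosure _ _ (by simp [T])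
    exact P.prop_of_iso (ModuleCat.biproductIsoPi T) h1
  obtain ⟨m, g, hg⟩ := Submodule.fg_iff_exists_fin_generating_family.1 hK
  let f : ModuleCat.of A (Fin m → A) ⟶ ModuleCat.of A (Fin n → A) :=
    ModuleCat.ofHom (Fintype.linearCombination A g)
  have hlt : HasCardinalLT (Arrow WalkingParallelPair) (ℵ₀ : Cardinal.{u}) := by
    rw [hasCardinalLT_aleph0_iff]; infer_instance
  haveI : P.IsClosedUnderColimitsOfShape WalkingParallelPair :=
    ObjectProperty.isClosedUnderColimitsOfShape_colimitsCardinalClosure _ _ _ hlt
  have h2 : P (cokernel f) := P.prop_colimit _ fun j => by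
    rcases j with _ | _
    · exact hfree m
    · exact hfree n
  refine P.prop_of_iso (ModuleCat.cokernelIsoRangeQuotient f ≪≫
    ((Submodule.quotEquivOfEq _ _ ?_) ≪≫ₗ e.symm).toModuleIso) h2
  show LinearMap.range (Fintype.linearCombination A g) = K
  rw [Fintype.range_linearCombination, hg]

theorem closure_le_fpMod : (genOne A).colimitsCardinalClosure (ℵ₀ : Cardinal.{u}) ≤ fpMod A :=
  (genOne A).colimitsCardinalClosure_le (ℵ₀ : Cardinal.{u})
    (fun (J : Type u) _ hJ => ⟨fun M hM => by
      haveI : Finite (Arrow J) := (hasCardinalLT_aleph0_iff _).1 hJ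
      exact fpMod_colimit hM.some⟩)
    fun M hM => by
      obtain rfl := (ObjectProperty.singleton_iff _ _).1 hM
      exact (inferInstance : Module.FinitePresentation A A)

/-- The compact objects are the modules of finite presentation. -/
theorem isFinitelyPresentable_eq :
    ObjectProperty.isFinitelyPresentable.{u} (ModuleCat.{u} A) = fpMod A :=
  le_antisymm
    ((IsStrongGenerator.colimitsCardinalClosure_eq_isCardinalPresentable (isStrongGenerator_genOne A)
      (genOne_le A)).le.trans (closure_le_fpMod A))
    ((fpMod_le_closure A).trans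
      (IsStrongGenerator.colimitsCardinalClosure_eq_isCardinalPresentable (isStrongGenerator_genOne A)
        (genOne_le A)).ge)

instance isFinitelyAccessible : IsFinitelyAccessibleCategory.{u} (ModuleCat.{u} A) :=
  haveI := isLfp A
  inferInstance

instance essentiallySmall_fpMod : ObjectProperty.EssentiallySmall.{u} (fpMod A) :=
  isFinitelyPresentable_eq A ▸ inferInstance

instance isDense_fpMod : (fpMod A).ι.IsDense :=
  isFinitelyPresentable_eq A ▸ inferInstance

instance isFiltered_costructuredArrow (M : ModuleCat.{u} A) :
    IsFiltered (CostructuredArrow (fpMod A).ι M) := by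
  rw [← isFinitelyPresentable_eq A]; infer_instance

end Groth.Agent.IndExt

namespace Groth.Agent.IndExt

instance isFinitelyPresentable_fpMod (A : Type u) [CommRing A] (p : (fpMod A).FullSubcategory) :
    IsFinitelyPresentable.{u} ((fpMod A).ι.obj p) :=
  (isFinitelyPresentable_eq A).ge _ p.property

end Groth.Agent.IndExt
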